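/-!
# Data for the Schur multiplier of the presented J4 (owner: helper21)

Conjugating words, and words in the two generators of the centraliser of the third generator inside M24.
-/

namespace CfsgLib.Sporadic.J4Mult

/-- Conjugates the third generator into M24. -/
def conjT : List Nat :=
  [0, 3, 4, 0, 4, 3, 4, 3, 4, 2, 4, 2, 4, 0, 4, 2, 0, 2, 0, 2, 0, 3, 0, 3, 0, 2, 0, 2, 0, 2, 2, 0, 2,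
    0, 3, 0, 3, 0, 2, 0, 2, 0, 2, 0, 3, 4, 0, 4, 3, 4, 3, 4, 2, 4, 2, 4, 0, 4, 2, 0, 2, 0, 2, 0, 3, 0,
    3, 0, 2, 0, 2, 0, 2, 2, 0, 2, 0, 3, 0, 3, 0, 2, 0, 2, 0, 2, 0, 3, 4, 0, 4, 3, 4, 3]

/-- Conjugates the product of the third generator with the first to the first. -/
def conjTX : List Nat :=
  [2, 4, 3, 3, 0, 3, 3, 0, 3, 4, 0, 2, 0, 2, 2, 0, 2, 2, 4, 3, 0, 2, 4, 3, 3, 0, 3, 3, 0, 3]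

/-- Conjugates the involution of the last relator to the first generator. -/
def conjG : List Nat :=
  [0, 2, 0, 3, 2, 0, 2, 0, 2, 0, 2, 2, 0, 2, 0, 2, 0, 2, 2, 0, 2, 0, 2, 0, 2, 4, 3, 3, 0, 3, 0, 3, 0,
    3, 0, 3, 0, 3, 0, 3, 3, 0, 3, 0, 3, 0, 4, 0, 2, 0, 2, 0, 2, 2, 0, 2, 0, 2, 0, 2, 0, 2, 0, 2, 0, 2,
    2, 2, 0, 3, 0, 0, 0, 2, 0, 3, 2, 0, 2, 0, 2, 0, 2, 2, 0, 2, 0, 2, 0, 2, 2, 0, 2, 0, 2, 0, 2, 4, 3,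
    3, 0, 3, 0, 3, 0, 3, 0, 3, 0, 3, 0, 3, 3, 0, 3, 0, 3, 0, 4, 0, 2, 0, 2, 0, 2, 2, 0, 2, 0, 2, 0, 2,
    0, 2, 0, 2, 0, 2, 2, 2, 0, 3, 0, 0, 0, 2, 0, 3, 2, 0, 2, 0, 2, 0, 2, 2, 0, 2, 0, 2, 0, 2, 2, 0, 2,
    0, 2, 0, 2, 4, 3, 3, 0, 3, 0, 3, 0, 3, 0, 3, 0, 3, 0, 3, 3, 0, 3, 0, 3, 0, 4, 0, 2, 0, 2, 0, 2, 2,
    0, 2, 0, 2, 0, 2, 0, 2, 0, 2, 0, 2, 2, 2, 0, 3, 0, 0, 0, 2, 0, 3, 2, 0, 2, 0, 2, 0, 2, 2, 0, 2, 0,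
    2, 0, 2, 2, 0, 2, 0, 2, 0, 2, 4, 3, 3, 0, 3, 0, 3, 0, 3, 0, 3, 0, 3, 0, 3, 3, 0, 3, 0, 3, 0, 4, 0,
    2, 0, 2, 0, 2, 2, 0, 2, 0, 2, 0, 2, 0, 2, 0, 2, 0, 2, 2, 2, 0, 3, 0, 0, 0, 2, 0, 3, 2, 0, 2, 0, 2,
    0, 2, 2, 0, 2, 0, 2, 0, 2, 2, 0, 2, 0, 2, 0, 2, 4, 3, 3, 0, 3, 0, 3, 0, 3, 0, 3, 0, 3, 0, 3, 3, 0,
    3, 0, 3, 0, 4, 0, 2, 0, 2, 0, 2, 2, 0, 2, 0, 2, 0, 2, 0, 2, 0, 2, 0, 2, 2, 2, 0, 3, 0, 0, 0, 2, 0, 3]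

/-- The element of order four of the last relator, in the centraliser. -/
def centM : List Nat :=
  [0, 1, 1, 0, 1, 1, 0, 1, 0, 1, 0, 1, 0, 1, 0, 1, 1, 1, 0, 1, 1, 0, 1, 1, 1, 0, 1, 0, 1]

/-- A conjugate of its square, in the centraliser. -/
def centB : List Nat :=
  [0, 1, 0, 1, 1, 0, 1, 1, 1, 0, 1, 0, 1, 1, 0, 1, 1, 1]

end CfsgLib.Sporadic.J4Mult
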