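import Cfsg.Agent.Lib.Sporadic.J4Inj.Iso
import Cfsg.Agent.Lib.Schur.CentralLift
import Cfsg.Agent.Lib.Sporadic.J4Mult.Data

/-!
# Words in the presented J4 and in a central extension of it (owner: helper21)

An extension receives a map of the copy of M24 and one further element standing for the third generator.
-/

set_option autoImplicit false
set_option maxRecDepth 40000

namespace CfsgLib.Sporadic.J4Mult

open Cfsg
open CfsgLib.Sporadic.J4Inj (jk jT invK uWord gwG gG gL)
open CfsgLib.Sporadic.J4Rep (toJ4 jL rho relWords code)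
open CfsgLib.Sporadic.J4Order (eqW el el_eq okW okW_iff)

/-- A word over the two generators of the centraliser, in full. -/
noncomputable def expand (w : List ℕ) : List ℕ := w.flatMap fun i => cond (Nat.beq i 0) [0] uWord

/-- The conjugator of the first long relator. -/
def raWord : List ℕ := [2, 0, 3, 0, 2, 0, 3, 0]

/-- The element of order three of the first long relator, moved to the third generator. -/
noncomputable def nWord : List ℕ := raWord ++ [2] ++ invK raWord

/-- The element of order four of the last relator. -/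
def mWord : List ℕ :=
  [2, 0, 2, 0, 2, 0, 2, 2, 0, 2, 0, 2, 0, 2, 2, 0, 2, 0, 2, 0, 2]

/-- The conjugator of the last relator. -/
def bWord : List ℕ :=
  [0, 2, 0, 2, 0, 2, 2, 0, 2, 0, 2, 0, 2, 0, 2, 0, 2, 0, 2, 2]

/-- The two involutions of the last relator, multiplied. -/
noncomputable def pWord : List ℕ := [4] ++ invK bWord ++ [4] ++ bWord

/-- A repeated word. -/
def repW (n : ℕ) (w : List ℕ) : List ℕ := (List.replicate n w).flatten

/-- The relator words after the seven of M24. -/
noncomputable def tailWords : List (List ℕ) :=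
  [[4, 4], [5] ++ invK uWord ++ [4] ++ uWord, [5, 1, 4, 0],
    repW 3 ([2] ++ invK raWord ++ [4] ++ raWord), repW 2 (mWord ++ pWord)]

theorem relWords_split : (decide (relWords.drop 7 = tailWords) &&
    (relWords.take 7).all (fun w => w.all (fun k => Nat.blt k 4) && Nat.beq (J4Pres.pword w) pone)) = true := by
  decide +kernel

theorem low_words : ([raWord, nWord, invK raWord, mWord, bWord, invK bWord, uWord, invK uWord,
    uWord ++ uWord].all fun w => w.all fun k => Nat.blt k 4) = true := by decide +kernel

/-- The identities inside M24. -/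
theorem perm_checks : (Nat.beq (J4Pres.pword (nWord ++ nWord ++ nWord)) pone &&
    Nat.beq (J4Pres.pword ((uWord ++ uWord) ++ nWord)) (J4Pres.pword (nWord ++ nWord ++ (uWord ++ uWord))) &&
    Nat.beq (J4Pres.pword (repW 4 mWord)) pone &&
    Nat.beq (J4Pres.pword (expand centM)) (J4Pres.pword mWord) &&
    Nat.beq (J4Pres.pword (expand centB)) (J4Pres.pword (bWord ++ mWord ++ mWord ++ invK bWord)) &&
    Nat.beq (J4Pres.pword (repW 21 ([0] ++ uWord))) pone &&
    Nat.beq (J4Pres.pword (uWord ++ uWord ++ (uWord ++ uWord))) pone) = true := by decide +kernel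

/-- The identities in the representation. -/
theorem model_checks : (eqW (repW 3 (nWord ++ [4])) [] && eqW (repW 4 pWord) [] &&
    eqW (repW 2 (mWord ++ pWord)) [] &&
    eqW (conjT ++ [4]) (uWord ++ uWord ++ conjT) && eqW (conjTX ++ [4, 0]) ([0] ++ conjTX) &&
    eqW (conjG ++ mWord ++ pWord) ([0] ++ conjG)) = true := by decide +kernel

theorem low {w : List ℕ} (hw : w ∈ [raWord, nWord, invK raWord, mWord, bWord, invK bWord, uWord, invK uWord,
    uWord ++ uWord]) : ∀ k ∈ w, k < 4 := by
  have h := List.all_eq_true.1 low_words w hw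
  simpa using h

theorem gwG_eq {u v : List ℕ} (h : eqW u v = true) : gwG u = gwG v := by
  have h' := h
  simp only [eqW, Bool.and_eq_true] at h'
  apply J4Inj.rho_injective
  rw [J4Inj.rho_gwG (okW_iff.1 h'.1.1), J4Inj.rho_gwG (okW_iff.1 h'.1.2), el_eq h]

theorem val_invK (w : List ℕ) : J4Pres.val (invK w) = (J4Pres.val w)⁻¹ := by
  apply J4Rep.toJ4_injective
  rw [map_inv]
  exact J4Inj.jk_invK w

section Extension

variable {Γ : Type*} [Group Γ] (ψ : J4Pres.K0 →* Γ) (T : Γ)

/-- A letter in the extension. -/
noncomputable def lv (k : ℕ) : Γ := cond (Nat.blt k 4) (ψ (J4Pres.L k)) T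

/-- A word in the extension. -/
noncomputable def wv (w : List ℕ) : Γ := (w.map (lv ψ T)).prod

theorem wv_nil : wv ψ T [] = 1 := rfl

theorem wv_append (u v : List ℕ) : wv ψ T (u ++ v) = wv ψ T u * wv ψ T v := by simp [wv]

theorem wv_four : wv ψ T [4] = T := by simp [wv, lv, show Nat.blt 4 4 = false from rfl]

theorem wv_five : wv ψ T [5] = T := by simp [wv, lv, show Nat.blt 5 4 = false from rfl]

theorem wv_low {w : List ℕ} (hw : ∀ k ∈ w, k < 4) : wv ψ T w = ψ (J4Pres.val w) := by
  rw [J4Pres.val, map_list_prod, List.map_map]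
  refine congrArg List.prod (List.map_congr_left fun k hk => ?_)
  simp [lv, show Nat.blt k 4 = true by simpa using hw k hk]

theorem wv_repW (n : ℕ) (w : List ℕ) : wv ψ T (repW n w) = wv ψ T w ^ n := by
  induction n with
  | zero => simp [repW, wv_nil]
  | succ n ih => rw [repW, List.replicate_succ, List.flatten_cons, wv_append, pow_succ', ← ih]; rfl

theorem commute_expand (hX : Commute T (ψ (J4Pres.val [0]))) (hU : Commute T (ψ (J4Pres.val uWord))) :
    ∀ w : List ℕ, Commute T (ψ (J4Pres.val (expand w)))
  | [] => by simp [expand, J4Pres.val]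
  | i :: w => by
    rw [show expand (i :: w) = cond (Nat.beq i 0) [0] uWord ++ expand w from rfl, J4Pres.val_append, map_mul]
    refine Commute.mul_right ?_ (commute_expand hX hU w)
    cases Nat.beq i 0
    · exact hU
    · exact hX

variable (σ : Γ →* Spor.J4) (hψ : σ.comp ψ = toJ4)
include hψ

theorem map_val (w : List ℕ) : σ (ψ (J4Pres.val w)) = jk w := DFunLike.congr_fun hψ _

variable (hT : σ T = jT)
include hT

theorem map_lv {k : ℕ} (hk : k < 6) : σ (lv ψ T k) = gG k := by
  by_cases h4 : k < 4
  · rw [lv, show Nat.blt k 4 = true by simpa using h4, cond_true,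
      show σ (ψ (J4Pres.L k)) = toJ4 (J4Pres.L k) from DFunLike.congr_fun hψ _,
      gG, show Nat.ble 4 k = false from Bool.eq_false_iff.2 (by simp; omega), Bool.false_and, cond_false, gL,
      show Nat.blt k 4 = true by simpa using h4, cond_true]
    exact J4Rep.lift_fr h4
  · rw [lv, show Nat.blt k 4 = false from Bool.eq_false_iff.2 (by simpa using h4), cond_false, hT, gG,
      show Nat.ble 4 k = true by simp; omega, show Nat.blt k 6 = true by simpa using hk, Bool.true_and, cond_true]

theorem map_wv {w : List ℕ} (hw : ∀ k ∈ w, k < 6) : σ (wv ψ T w) = gwG w := by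
  rw [wv, map_list_prod, List.map_map, gwG]
  exact congrArg List.prod (List.map_congr_left fun k hk => map_lv ψ T σ hψ hT (hw k hk))

theorem map_wv_eq {u v : List ℕ} (h : eqW u v = true) (h6 : (u ++ v).all (fun k => Nat.blt k 6) = true) :
    σ (wv ψ T u) = σ (wv ψ T v) := by
  have h' : ∀ k ∈ u ++ v, k < 6 := fun k hk => by simpa using List.all_eq_true.1 h6 k hk
  rw [map_wv ψ T σ hψ hT (fun k hk => h' k (List.mem_append_left _ hk)),
    map_wv ψ T σ hψ hT (fun k hk => h' k (List.mem_append_right _ hk)), gwG_eq h]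

/-- Five equations turn the map into a section, so the kernel is trivial. -/
theorem ker_eq_bot (hσ : Cfsg.IsStemExtension σ) (h2 : T * T = 1) (hX : Commute T (ψ (J4Pres.val [0])))
    (hU : Commute T (ψ (J4Pres.val uWord)))
    (hN : (ψ (J4Pres.val nWord) * T) ^ 3 = 1)
    (hM : (ψ (J4Pres.val mWord) * (T * ((ψ (J4Pres.val bWord))⁻¹ * T * ψ (J4Pres.val bWord)))) ^ 2 = 1) :
    σ.ker = ⊥ := by
  have hTi : T⁻¹ = T := inv_eq_of_mul_eq_one_right h2
  let f : Spor.J4.Gen → Γ := fun g => match g with
    | .x => ψ (J4Pres.L 0)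
    | .y => ψ (J4Pres.L 2)
    | .t => T
  have hf : ∀ r : FreeGroup Spor.J4.Gen, FreeGroup.lift f r = wv ψ T (r.toWord.map code) := by
    intro r
    conv_lhs => rw [← FreeGroup.mk_toWord (x := r)]
    rw [FreeGroup.lift_mk, wv, List.map_map]
    refine congrArg List.prod (List.map_congr_left fun p _ => ?_)
    obtain ⟨g, b⟩ := p
    have hinv : ∀ k, J4Pres.val [k ^^^ 1] = (J4Pres.val [k])⁻¹ := fun k => val_invK [k]
    have h0 : ψ (J4Pres.L 1) = (ψ (J4Pres.L 0))⁻¹ := by
      rw [← map_inv]
      have := hinv 0
      simp only [J4Pres.val, List.map_singleton, List.prod_singleton] at this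
      exact congrArg ψ this
    have h2' : ψ (J4Pres.L 3) = (ψ (J4Pres.L 2))⁻¹ := by
      rw [← map_inv]
      have := hinv 2
      simp only [J4Pres.val, List.map_singleton, List.prod_singleton] at this
      exact congrArg ψ this
    cases g <;> cases b <;> simp only [f, lv, code, Function.comp_apply, cond_true, cond_false, hTi] <;> (try simp only [show Nat.blt 0 4 = true from rfl, show Nat.blt 1 4 = true from rfl, show Nat.blt 2 4 = true from rfl, show Nat.blt 3 4 = true from rfl, show Nat.blt 4 4 = false from rfl, show Nat.blt 5 4 = false from rfl, cond_true, cond_false, h0, h2'])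
  have hlow : ∀ {w : List ℕ}, w ∈ [raWord, nWord, invK raWord, mWord, bWord, invK bWord, uWord, invK uWord,
      uWord ++ uWord] → wv ψ T w = ψ (J4Pres.val w) := fun hw => wv_low ψ T (low hw)
  have hu : wv ψ T uWord = ψ (J4Pres.val uWord) := hlow (by simp)
  have hui : wv ψ T (invK uWord) = (ψ (J4Pres.val uWord))⁻¹ := by
    rw [hlow (by simp), val_invK, map_inv]
  have hx : wv ψ T [0] = ψ (J4Pres.val [0]) := wv_low ψ T (by simp)
  have hsplit := relWords_split
  rw [Bool.and_eq_true, decide_eq_true_eq] at hsplit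
  have hrels : ∀ r ∈ Spor.coxRelators Spor.J4.edges ∪ {r | r ∈ Spor.J4.extra}, FreeGroup.lift f r = 1 := by
    rintro r (⟨a, ha, -⟩ | hr)
    · simp [Spor.J4.edges, Spor.coxNodes] at ha
    rw [hf]
    have hmem : r.toWord.map code ∈ relWords := List.mem_map.2 ⟨r, hr, rfl⟩
    generalize r.toWord.map code = w at hmem ⊢
    rw [← List.take_append_drop 7 relWords, List.mem_append, hsplit.1] at hmem
    rcases hmem with hw | hw
    · have h := List.all_eq_true.1 hsplit.2 w hw
      rw [Bool.and_eq_true] at h
      rw [wv_low ψ T (by simpa using h.1), J4Inj.val_eq_of_pword (v := []) h.2, show J4Pres.val [] = 1 from rfl,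
        map_one]
    · simp only [tailWords, List.mem_cons, List.not_mem_nil, or_false] at hw
      rcases hw with rfl | rfl | rfl | rfl | rfl
      · rw [show [4, 4] = [4] ++ [4] from rfl, wv_append, wv_four, h2]
      · rw [wv_append, wv_append, wv_append, wv_five, wv_four, hu, hui, mul_assoc, hU.eq, ← mul_assoc,
          mul_assoc T, inv_mul_cancel, mul_one, h2]
      · have h1 : wv ψ T [1] = (ψ (J4Pres.val [0]))⁻¹ := by
          rw [wv_low ψ T (by simp), ← map_inv, ← val_invK]
          rfl
        rw [show [5, 1, 4, 0] = [5] ++ [1] ++ [4] ++ [0] from rfl, wv_append, wv_append, wv_append, wv_five,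
          wv_four, hx, h1, mul_assoc, hX.eq, ← mul_assoc, mul_assoc T, inv_mul_cancel, mul_one, h2]
      · rw [wv_repW, wv_append, wv_append, wv_append, wv_four, hlow (w := invK raWord) (by simp),
          hlow (w := raWord) (by simp), wv_low ψ T (w := [2]) (by simp), val_invK, map_inv]
        rw [nWord, J4Pres.val_append, J4Pres.val_append, map_mul, map_mul, val_invK, map_inv] at hN
        generalize ψ (J4Pres.val raWord) = R at hN ⊢
        generalize ψ (J4Pres.val [2]) = Y at hN ⊢
        rw [show Y * R⁻¹ * T * R = R⁻¹ * (R * Y * R⁻¹ * T) * R⁻¹⁻¹ by group, conj_pow, hN]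
        group
      · rw [wv_repW, wv_append, pWord, wv_append, wv_append, wv_append, wv_four, hlow (w := mWord) (by simp),
          hlow (w := invK bWord) (by simp), hlow (w := bWord) (by simp), val_invK, map_inv]
        simp only [mul_assoc] at hM ⊢
        exact hM
  let s : Spor.J4 →* Γ := PresentedGroup.toGroup hrels
  have hs : ∀ j, σ (s j) = j := by
    intro j
    refine DFunLike.congr_fun (PresentedGroup.ext (φ := σ.comp s) (ψ := MonoidHom.id Spor.J4) fun g => ?_) j
    rw [MonoidHom.comp_apply, PresentedGroup.toGroup.of, MonoidHom.id_apply]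
    cases g
    · exact (DFunLike.congr_fun hψ _).trans (J4Rep.lift_fr (k := 0) (by norm_num))
    · exact (DFunLike.congr_fun hψ _).trans (J4Rep.lift_fr (k := 2) (by norm_num))
    · exact hT
  have htop : s.range = ⊤ := CfsgLib.Schur.eq_top_of_stem σ hσ _ (by
    rw [eq_top_iff]
    exact fun j _ => ⟨s j, ⟨j, rfl⟩, hs j⟩)
  rw [Subgroup.eq_bot_iff_forall]
  intro z hz
  obtain ⟨j, rfl⟩ : z ∈ s.range := htop ▸ Subgroup.mem_top z
  rw [MonoidHom.mem_ker, hs] at hz
  rw [hz, map_one]

end Extension

end CfsgLib.Sporadic.J4Mult
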