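import Cfsg.Agent.Lib.Sporadic.J4Mult.Lifts
import Cfsg.Agent.Lib.Sporadic.MultiplierEngine
import Cfsg.Agent.Lib.Sporadic.MathieuTwentyFourMultiplier

/-!
# The Schur multiplier of the presented J4 is trivial (owner: helper21)

The copy of M24 lifts. For an odd prime the third generator lifts to an involution and the long relators lift
because the centre elements they give are inverted, or have coprime order. For two, lifts of the conjugates
of involutions of M24 square to one.
-/

set_option autoImplicit false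
set_option maxRecDepth 40000

namespace CfsgLib.Sporadic.J4Mult

open Cfsg
open CfsgLib.Sporadic.J4Inj (jk jT invK uWord gwG val_eq_of_pword)
open CfsgLib.Sporadic.J4Rep (toJ4)
open CfsgLib.Sporadic.J4Order (eqW)

variable {Γ : Type*} [Group Γ] [Finite Γ] {σ : Γ →* Spor.J4} {ψ : J4Pres.K0 →* Γ}

theorem kill_coprime {z : Γ} {n r : ℕ} (h : z ^ n = 1) (hr : z ^ r = 1) (hc : Nat.Coprime n r) : z = 1 := by
  have := pow_gcd_eq_one.2 ⟨h, hr⟩
  rwa [hc.gcd_eq_one, pow_one] at this

omit [Finite Γ] in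
theorem central (hσ : Cfsg.IsStemExtension σ) {c : Γ} (hc : c ∈ σ.ker) (g : Γ) : Commute g c :=
  Subgroup.mem_center_iff.1 (hσ.2.1 hc) g

omit [Finite Γ] in
theorem sq_conj (hσ : Cfsg.IsStemExtension σ) (he : ∀ z ∈ σ.ker, z ^ 2 = 1) {G A C : Γ}
    (h : σ (C * G) = σ (A * C)) (hA : A * A = 1) : G * G = 1 := by
  set D := A⁻¹ * (C * G * C⁻¹) with hD
  have hk : D ∈ σ.ker := by
    have h1 : σ C * σ G = σ A * σ C := by rw [← map_mul, h, map_mul]
    rw [MonoidHom.mem_ker, hD, map_mul, map_mul, map_mul, map_inv, map_inv, h1]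
    group
  have e : C * G * C⁻¹ = A * D := by rw [hD]; group
  have h1 : C * (G * G) * C⁻¹ = 1 := by
    rw [show C * (G * G) * C⁻¹ = (C * G * C⁻¹) * (C * G * C⁻¹) by group, e,
      show A * D * (A * D) = A * (D * A) * D by group, ← (central hσ hk A).eq,
      show A * (A * D) * D = (A * A) * D ^ 2 by rw [pow_two]; group, hA, he D hk, mul_one]
  exact conj_eq_one_iff.1 h1

theorem val_sq_zero : J4Pres.val [0] * J4Pres.val [0] = 1 := by
  rw [← J4Pres.val_append]
  exact val_eq_of_pword (v := []) (by decide +kernel)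

/-- The checks inside M24, as equations. -/
theorem k0_facts : J4Pres.val nWord ^ 3 = 1 ∧
    J4Pres.val (uWord ++ uWord) * J4Pres.val nWord =
      J4Pres.val nWord * J4Pres.val nWord * J4Pres.val (uWord ++ uWord) ∧
    J4Pres.val mWord ^ 4 = 1 ∧ J4Pres.val (expand centM) = J4Pres.val mWord ∧
    J4Pres.val (expand centB) =
      J4Pres.val bWord * J4Pres.val mWord * J4Pres.val mWord * (J4Pres.val bWord)⁻¹ ∧
    (J4Pres.val [0] * J4Pres.val uWord) ^ 21 = 1 ∧
    J4Pres.val (uWord ++ uWord) * J4Pres.val (uWord ++ uWord) = 1 := by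
  have h := perm_checks
  simp only [Bool.and_eq_true] at h
  obtain ⟨⟨⟨⟨⟨⟨h1, h2⟩, h3⟩, h4⟩, h5⟩, h6⟩, h7⟩ := h
  have hrep : ∀ (n : ℕ) (w : List ℕ), J4Pres.val (repW n w) = J4Pres.val w ^ n := by
    intro n w
    induction n with
    | zero => simp [repW, J4Pres.val]
    | succ n ih => rw [repW, List.replicate_succ, List.flatten_cons, J4Pres.val_append, pow_succ', ← ih]; rfl
  refine ⟨?_, ?_, ?_, val_eq_of_pword h4, ?_, ?_, ?_⟩
  · rw [pow_three, ← J4Pres.val_append, ← J4Pres.val_append, ← List.append_assoc]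
    exact val_eq_of_pword (v := []) h1
  · have := val_eq_of_pword h2
    simpa only [J4Pres.val_append, mul_assoc] using this
  · rw [← hrep]; exact val_eq_of_pword (v := []) h3
  · have := val_eq_of_pword h5
    simpa only [J4Pres.val_append, val_invK, mul_assoc] using this
  · rw [← J4Pres.val_append, ← hrep]; exact val_eq_of_pword (v := []) h6
  · rw [← J4Pres.val_append]; exact val_eq_of_pword (v := []) h7

section Common

variable (hσ : Cfsg.IsStemExtension σ) (hψ : σ.comp ψ = toJ4) {T : Γ} (hT : σ T = jT)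
include hσ hψ hT

theorem sigma_commute {w : List ℕ} (h : Commute (jk w) jT) :
    σ (T * ψ (J4Pres.val w)) = σ (ψ (J4Pres.val w) * T) := by
  rw [map_mul, map_mul, hT, map_val ψ σ hψ, h.eq]

omit [Finite Γ] in
theorem relOne_ker : (ψ (J4Pres.val nWord) * T) ^ 3 ∈ σ.ker := by
  have h := model_checks
  simp only [Bool.and_eq_true] at h
  have e := map_wv_eq ψ T σ hψ hT h.1.1.1.1.1 (by decide +kernel)
  rw [wv_repW, wv_append, wv_four, wv_nil, wv_low ψ T (low (w := nWord) (by simp))] at e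
  rw [MonoidHom.mem_ker, e, map_one]

omit [Finite Γ] in
theorem wv_pWord : wv ψ T pWord = T * ((ψ (J4Pres.val bWord))⁻¹ * T * ψ (J4Pres.val bWord)) := by
  rw [pWord, wv_append, wv_append, wv_append, wv_four, wv_low ψ T (low (w := invK bWord) (by simp)),
    wv_low ψ T (low (w := bWord) (by simp)), val_invK, map_inv]
  group

omit [Finite Γ] in
theorem relTwo_ker :
    (ψ (J4Pres.val mWord) * (T * ((ψ (J4Pres.val bWord))⁻¹ * T * ψ (J4Pres.val bWord)))) ^ 2 ∈ σ.ker := by
  have h := model_checks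
  simp only [Bool.and_eq_true] at h
  have e := map_wv_eq ψ T σ hψ hT h.1.1.1.2 (by decide +kernel)
  rw [wv_repW, wv_append, wv_pWord hσ hψ hT, wv_nil, wv_low ψ T (low (w := mWord) (by simp))] at e
  rw [MonoidHom.mem_ker, e, map_one]

omit [Finite Γ] in
theorem pFour_ker : (T * ((ψ (J4Pres.val bWord))⁻¹ * T * ψ (J4Pres.val bWord))) ^ 4 ∈ σ.ker := by
  have h := model_checks
  simp only [Bool.and_eq_true] at h
  have e := map_wv_eq ψ T σ hψ hT h.1.1.1.1.2 (by decide +kernel)
  rw [wv_repW, wv_pWord hσ hψ hT, wv_nil] at e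
  rw [MonoidHom.mem_ker, e, map_one]

end Common

/-- The odd primes. -/
theorem odd_case (hσ : Cfsg.IsStemExtension σ) {p : ℕ} (hp : Odd p) (he : ∀ z ∈ σ.ker, z ^ p = 1)
    (hψ : σ.comp ψ = toJ4) : σ.ker = ⊥ := by
  have cop2 : Nat.Coprime 2 p := Nat.coprime_two_left.2 hp
  obtain ⟨T0, hT0⟩ := hσ.1 jT
  have hz : T0 * T0 ∈ σ.ker := by rw [MonoidHom.mem_ker, map_mul, hT0, J4Inj.jT_sq]
  obtain ⟨k, hk⟩ := hp
  obtain ⟨T, hT, hT2⟩ : ∃ T : Γ, σ T = jT ∧ T * T = 1 := by
    refine ⟨T0 * (T0 * T0) ^ k, by rw [map_mul, map_pow, MonoidHom.mem_ker.1 hz, one_pow, mul_one, hT0], ?_⟩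
    have hc := central hσ (pow_mem hz k) T0
    have hp2 := he _ hz
    rw [hk, pow_succ', two_mul, pow_add] at hp2
    rw [show T0 * (T0 * T0) ^ k * (T0 * (T0 * T0) ^ k) = T0 * ((T0 * T0) ^ k * T0) * (T0 * T0) ^ k by group,
      ← hc.eq, ← mul_assoc T0 T0, mul_assoc (T0 * T0), hp2]
  have hTi : T⁻¹ = T := inv_eq_of_mul_eq_one_right hT2
  have hcomm : ∀ {w : List ℕ}, Commute (jk w) jT → Commute T (ψ (J4Pres.val w)) := by
    intro w hw
    have hs := sigma_commute hσ hψ hT hw
    set H := ψ (J4Pres.val w)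
    set c := T⁻¹ * (H * T * H⁻¹) with hc
    have hck : c ∈ σ.ker := by
      rw [map_mul, map_mul] at hs
      simp only [MonoidHom.mem_ker, hc, map_mul, map_inv]
      rw [← hs]
      group
    have e : H * T * H⁻¹ = T * c := by rw [hc]; group
    have h1 : c ^ 2 = 1 := by
      calc c ^ 2 = T * (T * c) * c := by rw [← mul_assoc T T, hT2, one_mul, pow_two]
        _ = T * (c * T) * c := by rw [(central hσ hck T).eq]
        _ = (T * c) * (T * c) := by group
        _ = (H * T * H⁻¹) * (H * T * H⁻¹) := by rw [e]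
        _ = H * (T * T) * H⁻¹ := by group
        _ = 1 := by rw [hT2]; group
    have hc1 : c = 1 := kill_coprime h1 (he c hck) cop2
    rw [hc1, mul_one] at e
    exact ((commute_iff_eq _ _).2 (mul_inv_eq_iff_eq_mul.1 e)).symm
  have hX := hcomm J4Inj.comm_x
  have hU := hcomm J4Inj.comm_u
  obtain ⟨n3, nh, m4, cM, cB, -, -⟩ := k0_facts
  refine ker_eq_bot ψ T σ hψ hT hσ hT2 hX hU ?_ ?_
  · have hA := relOne_ker hσ hψ hT
    set A := (ψ (J4Pres.val nWord) * T) ^ 3 with hAdef
    have hH : Commute T (ψ (J4Pres.val (uWord ++ uWord))) := by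
      rw [J4Pres.val_append, map_mul]; exact hU.mul_right hU
    have e3 := congrArg ψ n3
    have en := congrArg ψ nh
    rw [map_pow, map_one] at e3
    rw [map_mul, map_mul, map_mul] at en
    set N := ψ (J4Pres.val nWord) with hN
    set H := ψ (J4Pres.val (uWord ++ uWord))
    have hNi : N⁻¹ = N * N := inv_eq_of_mul_eq_one_right (by rw [← pow_three]; exact e3)
    have h1 : H * (N * T) * H⁻¹ = N⁻¹ * T := by
      rw [← mul_assoc, en, hNi, mul_assoc _ H T, ← hH.eq]
      group
    have h2 : (N⁻¹ * T) ^ 3 = A := by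
      rw [← h1, conj_pow, ← hAdef, (central hσ hA H).eq, mul_inv_cancel_right]
    have h3 : A⁻¹ = A := by
      have e : (N⁻¹ * T)⁻¹ = T * (N * T) * T⁻¹ := by rw [mul_inv_rev, inv_inv, hTi, mul_assoc T (N * T) T,
        mul_assoc N T T, hT2, mul_one]
      rw [← h2, ← inv_pow, e, conj_pow, ← hAdef, (central hσ hA T).eq, mul_inv_cancel_right, h2]
    refine kill_coprime (n := 2) ?_ (he A hA) cop2
    rw [pow_two]
    exact mul_eq_one_iff_eq_inv.2 h3.symm
  · have hZ := relTwo_ker hσ hψ hT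
    have hC := pFour_ker hσ hψ hT
    have hM : Commute T (ψ (J4Pres.val mWord)) := cM ▸ commute_expand ψ T hX hU centM
    have hB : Commute T (ψ (J4Pres.val (expand centB))) := commute_expand ψ T hX hU centB
    rw [cB, map_mul, map_mul, map_mul, map_inv] at hB
    have em := congrArg ψ m4
    rw [map_pow, map_one] at em
    set M := ψ (J4Pres.val mWord)
    set B := ψ (J4Pres.val bWord)
    set T1 := B⁻¹ * T * B with hT1def
    have hT1 : T1 * T1 = 1 := by
      rw [hT1def, show B⁻¹ * T * B * (B⁻¹ * T * B) = B⁻¹ * (T * T) * B by group, hT2]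
      group
    set P := T * T1 with hP
    have hP4 : P ^ 4 = 1 := by
      have e : T * P * T⁻¹ = P⁻¹ := by
        rw [hP, mul_inv_rev, inv_eq_of_mul_eq_one_right hT1, hTi,
          show T * (T * T1) * T = T * T * (T1 * T) by group, hT2, one_mul]
      have h : P ^ 4 = (P ^ 4)⁻¹ := by
        rw [← inv_pow, ← e, conj_pow, (central hσ hC T).eq, mul_inv_cancel_right]
      refine kill_coprime (n := 2) ?_ (he _ hC) cop2
      rw [pow_two]
      exact mul_eq_one_iff_eq_inv.2 h
    have hM1 : Commute T1 (M * M) := by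
      show T1 * (M * M) = M * M * T1
      calc T1 * (M * M) = B⁻¹ * (T * (B * M * M * B⁻¹)) * B := by rw [hT1def]; group
        _ = B⁻¹ * (B * M * M * B⁻¹ * T) * B := by rw [hB.eq]
        _ = M * M * T1 := by rw [hT1def]; group
    have hMP : Commute (M * M) P := ((hM.symm.mul_left hM.symm)).mul_right hM1.symm
    set Z := (M * P) ^ 2 with hZdef
    have e : M * P * M⁻¹ = Z * (M * M * P)⁻¹ := by
      rw [hZdef, pow_two]
      group
    have h4 : Z ^ 4 = 1 := by
      have h := congrArg (· ^ 4) e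
      rw [conj_pow, hP4, mul_one, mul_inv_cancel, (central hσ hZ _).symm.mul_pow, inv_pow, hMP.mul_pow, hP4,
        mul_one, show (M * M) ^ 4 = (M ^ 4) ^ 2 by rw [← pow_two, ← pow_mul, ← pow_mul], em, one_pow, inv_one,
        mul_one] at h
      exact h.symm
    exact kill_coprime h4 (he Z hZ) (Nat.Coprime.pow_left 2 cop2)

/-- The prime two. -/
theorem two_case (hσ : Cfsg.IsStemExtension σ) (he : ∀ z ∈ σ.ker, z ^ 2 = 1) (hψ : σ.comp ψ = toJ4) :
    σ.ker = ⊥ := by
  obtain ⟨n3, -, -, -, -, o21, u4⟩ := k0_facts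
  have hmod := model_checks
  simp only [Bool.and_eq_true] at hmod
  obtain ⟨⟨⟨-, mT⟩, mX⟩, mG⟩ := hmod
  have hx2 : ψ (J4Pres.val [0]) * ψ (J4Pres.val [0]) = 1 := by rw [← map_mul, val_sq_zero, map_one]
  have facts : ∀ T : Γ, σ T = jT → T * T = 1 ∧ Commute T (ψ (J4Pres.val [0])) ∧
      Commute T (ψ (J4Pres.val uWord)) ∧
      (ψ (J4Pres.val mWord) * (T * ((ψ (J4Pres.val bWord))⁻¹ * T * ψ (J4Pres.val bWord)))) ^ 2 = 1 := by
    intro T hT
    have hT2 : T * T = 1 := by
      have e := map_wv_eq ψ T σ hψ hT mT (by decide +kernel)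
      rw [wv_append, wv_four, wv_append, wv_low ψ T (low (w := uWord ++ uWord) (by simp))] at e
      exact sq_conj hσ he e (by rw [← map_mul, u4, map_one])
    have hX : Commute T (ψ (J4Pres.val [0])) := by
      have e := map_wv_eq ψ T σ hψ hT mX (by decide +kernel)
      rw [show [4, 0] = [4] ++ [0] from rfl, wv_append, wv_append, wv_four, wv_append,
        wv_low ψ T (w := [0]) (by simp)] at e
      have h := sq_conj hσ he e hx2
      show T * _ = _ * T
      calc T * ψ (J4Pres.val [0]) = (T * ψ (J4Pres.val [0]))⁻¹ := eq_inv_of_mul_eq_one_left h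
        _ = _ := by rw [mul_inv_rev, inv_eq_of_mul_eq_one_right hT2, inv_eq_of_mul_eq_one_right hx2]
    have hU : Commute T (ψ (J4Pres.val uWord)) := by
      set X := ψ (J4Pres.val [0]) with hXdef
      set U := ψ (J4Pres.val uWord) with hUdef
      set H := X * U with hH
      have hs : σ (T * H) = σ (H * T) := by
        rw [hH, hXdef, hUdef, ← map_mul ψ, ← J4Pres.val_append]
        refine sigma_commute hσ hψ hT ?_
        rw [J4Inj.jk_append]
        exact J4Inj.comm_x.mul_left J4Inj.comm_u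
      set c := H⁻¹ * (T * H * T⁻¹) with hc
      have hck : c ∈ σ.ker := by
        have e1 : σ (T * H * T⁻¹) = σ H := by
          rw [map_mul σ (T * H) T⁻¹, hs, ← map_mul σ (H * T) T⁻¹, mul_inv_cancel_right]
        rw [MonoidHom.mem_ker, hc, map_mul σ H⁻¹, e1, ← map_mul σ H⁻¹ H, inv_mul_cancel, map_one]
      have e : T * H * T⁻¹ = H * c := by rw [hc]; group
      have h21 : H ^ 21 = 1 := by rw [hH, hXdef, hUdef, ← map_mul, ← map_pow, o21, map_one]
      have hc21 : c ^ 21 = 1 := by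
        have h := congrArg (· ^ 21) e
        rw [conj_pow, (central hσ hck H).mul_pow, h21, mul_one, mul_inv_cancel, one_mul] at h
        exact h.symm
      have hc1 : c = 1 := kill_coprime hc21 (he c hck) (by decide)
      rw [hc1, mul_one] at e
      have hcomm : Commute T H := mul_inv_eq_iff_eq_mul.1 e
      have hU' : U = X * H := by rw [hH, ← mul_assoc, hx2, one_mul]
      rw [hU']
      exact hX.mul_right hcomm
    refine ⟨hT2, hX, hU, ?_⟩
    have e := map_wv_eq ψ T σ hψ hT mG (by decide +kernel)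
    rw [List.append_assoc, wv_append, wv_append, wv_append, wv_pWord hσ hψ hT,
      wv_low ψ T (low (w := mWord) (by simp)), wv_low ψ T (w := [0]) (by simp)] at e
    rw [pow_two]
    exact sq_conj hσ he e hx2
  obtain ⟨T0, hT0⟩ := hσ.1 jT
  have hA := relOne_ker hσ hψ hT0
  set A := (ψ (J4Pres.val nWord) * T0) ^ 3 with hAdef
  have hT : σ (T0 * A) = jT := by rw [map_mul, MonoidHom.mem_ker.1 hA, mul_one, hT0]
  obtain ⟨hT2, hX, hU, hM⟩ := facts _ hT
  refine ker_eq_bot ψ (T0 * A) σ hψ hT hσ hT2 hX hU ?_ hM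
  rw [← mul_assoc, (central hσ hA _).mul_pow, ← hAdef, ← pow_succ', show A ^ (3 + 1) = (A ^ 2) ^ 2 from pow_mul A 2 2, he A hA, one_pow]

theorem multiplier_trivial : Cfsg.HasCyclicSchurMultiplier Spor.J4 1 := by
  haveI : IsSimpleGroup Spor.J4 := J4Inj.isJ4.1
  haveI : Finite Spor.J4 := Nat.finite_of_card_ne_zero (by rw [J4Inj.isJ4.2]; norm_num)
  let e : J4Pres.K0 ≃* ↥M24 :=
    MulEquiv.ofBijective J4Pres.toM24 ⟨J4Pres.toM24_injective, J4Pres.toM24_surjective⟩
  haveI : Finite J4Pres.K0 := J4Pres.card_K0.1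
  have hK : Cfsg.HasCyclicSchurMultiplier J4Pres.K0 1 := by
    refine CfsgLib.Schur.hasCyclicSchurMultiplier_one_of_forall fun Γ _ _ σ hσ => ?_
    have hk : (e.toMonoidHom.comp σ).ker = σ.ker := Subgroup.ext fun x => by simp [MonoidHom.mem_ker]
    have hst : Cfsg.IsStemExtension (e.toMonoidHom.comp σ) :=
      ⟨e.surjective.comp hσ.1, hk ▸ hσ.2.1, hk ▸ hσ.2.2⟩
    obtain ⟨π, hπ⟩ := MTwentyFourMult.multiplier_trivial.2 Γ _ hst
    rw [← hk, Subgroup.eq_bot_iff_forall]
    intro x hx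
    obtain ⟨u, hu⟩ := hπ ⟨x, hx⟩
    rw [Subsingleton.elim u 1, map_one] at hu
    exact (congrArg Subtype.val hu).symm
  refine CfsgLib.Schur.hasCyclicSchurMultiplier_one_of_forall fun Γ _ _ σ hσ =>
    (Subgroup.eq_bot_iff_forall _).2 fun z hz => ?_
  rw [← orderOf_eq_one_iff]
  by_contra hne
  obtain ⟨r, hr, hrz⟩ := Nat.exists_prime_and_dvd hne
  haveI := Fact.mk hr
  refine Mult.kills_prime σ hσ r (fun Δ _ _ τ hτ he => ?_) hz hrz
  obtain ⟨ψ, hψ⟩ := CfsgLib.Schur.exists_lift_of_perfect τ hτ.1 hτ.2.1 J4Pres.K0_commutator hK toJ4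
  have hbot : τ.ker = ⊥ := by
    rcases hr.eq_two_or_odd' with rfl | hodd
    · exact two_case hτ he hψ
    · exact odd_case hτ hodd he hψ
  refine ⟨⊤, by rw [Subgroup.index_top]; exact hr.not_dvd_one, fun z _ hk _ => ?_⟩
  rw [hbot] at hk
  exact hk

end CfsgLib.Sporadic.J4Mult
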